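import Groth.Agent.Fano.K239.HonDef
import Groth.Agent.Fano.K655.StdStable
import Groth.Agent.Fano.K188.LinP1

/-!
# Families of projective lines with distinct sections are prestable of genus zero

Nodes HB1 (`isPre_std`) and HB2 (`isPre_B0`) of `K239.PlanHon`.
-/

set_option autoImplicit false

universe u

open CategoryTheory CategoryTheory.Limits AlgebraicGeometry

namespace K458.HonB1

open K390.PnSec Groth.Agent.Fdesc.LocGen Groth.Agent.Dix.ProjProper
open Groth.Agent.Ega2.H295.PnUniq Groth.Agent.Ega2.H295.PnCoord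
open K188.LineDef K188.LinFun K188.MapP1 K188.LinP1 K745.ConDef K505.KonDef K239.HonDef W4swstmapratcurves K655.StdStable

section Points

variable {T Y : Scheme.{u}}

theorem mem_gl_ofFun (y : Γ(Y, ⊤)) (z : Y) :
    z ∈ CohB1.genLocus (Coh.structureModule Y) (homOf (ofFun y)) ↔ z ∈ Y.basicOpen y := by
  have h := genLocus_inf_eq (homOf (ofFun y : Γ(Coh.structureModule Y, ⊤))) (isGen_one ⊤) (a := y)
    (by rw [sec_homOf, res_refl, ofFun_eq_smul])
  rw [← h]
  exact ⟨fun h => ⟨h, trivial⟩, fun h => h.1⟩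

/-- The points of the projective line at which a linear form does not vanish. -/
theorem mem_gl_iff {ψ : Y ⟶ P1 T} {x : Fin 2 → Γ(Y, ⊤)}
    (hψ : GivenBy (ψ ≫ toZ 1 T) (Coh.structureModule Y) (fun a => ofFun (x a))) (c : Fin 2 → Γ(T, ⊤)) (y : Y) :
    ψ y ∈ CohB1.genLocus (N T) (homOf (((pr T).appTop (c 0)) • crd 1 T 0 + ((pr T).appTop (c 1)) • crd 1 T 1)) ↔
      y ∈ Y.basicOpen ((ψ ≫ pr T).appTop (c 0) * x 0 + (ψ ≫ pr T).appTop (c 1) * x 1) := by
  obtain ⟨e, he⟩ := ((GivenBy.refl (toZ 1 T)).comp ψ).exists_iso hψ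
  have h1 : e.hom.app ⊤ (pullTop ψ (((pr T).appTop (c 0)) • crd 1 T 0 + ((pr T).appTop (c 1)) • crd 1 T 1)) =
      ofFun ((ψ ≫ pr T).appTop (c 0) * x 0 + (ψ ≫ pr T).appTop (c 1) * x 1) := by
    have h3 : ∀ (g : Γ(P1 T, ⊤)) (s : Γ(N T, ⊤)), pullTop ψ (g • s) = (ψ.appTop g) • pullTop ψ s :=
      fun g s => pullSec_smul ψ g s
    have h4 : pullTop ψ (((pr T).appTop (c 0)) • crd 1 T 0 + ((pr T).appTop (c 1)) • crd 1 T 1) =
        (ψ.appTop ((pr T).appTop (c 0))) • pullTop ψ (crd 1 T 0) +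
        (ψ.appTop ((pr T).appTop (c 1))) • pullTop ψ (crd 1 T 1) := by
      rw [← h3, ← h3]
      exact pullSec_add ψ _ _
    rw [h4, map_add]
    have h5 : ∀ (g : Γ(Y, ⊤)) (s : Γ((Scheme.Modules.pullback ψ).obj (N T), ⊤)),
      e.hom.app ⊤ (g • s) = g • e.hom.app ⊤ s := fun g s => Scheme.Modules.Hom.app_smul e.hom g s
    rw [h5, h5]
    have h6 : e.hom.app ⊤ (pullTop ψ (crd 1 T 0)) = ofFun (x 0) := he 0
    have h7 : e.hom.app ⊤ (pullTop ψ (crd 1 T 1)) = ofFun (x 1) := he 1
    rw [h6, h7, Scheme.Hom.comp_appTop]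
    exact ofFun_smul_add _ _ _ _
  have h2 := genLocus_pullTop ψ (isInvertible_N (T := T))
    (((pr T).appTop (c 0)) • crd 1 T 0 + ((pr T).appTop (c 1)) • crd 1 T 1)
  have h3 := genLocus_app e (pullTop ψ (((pr T).appTop (c 0)) • crd 1 T 0 + ((pr T).appTop (c 1)) • crd 1 T 1))
  rw [h1, h2] at h3
  rw [← mem_gl_ofFun, h3]
  rfl

/-- Sections of the projective line with homogeneous coordinates whose determinant is a unit are disjoint. -/
theorem ne_of_isUnit {σ σ' : T ⟶ P1 T} (hσ : σ ≫ pr T = 𝟙 T) (hσ' : σ' ≫ pr T = 𝟙 T) {x x' : Fin 2 → Γ(T, ⊤)}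
    (h : GivenBy (σ ≫ toZ 1 T) (Coh.structureModule T) (fun a => ofFun (x a)))
    (h' : GivenBy (σ' ≫ toZ 1 T) (Coh.structureModule T) (fun a => ofFun (x' a)))
    (hu : IsUnit (x 0 * x' 1 - x 1 * x' 0)) (t : T) : σ t ≠ σ' t := by
  intro heq
  have h1 := mem_gl_iff h ![-x 1, x 0] t
  have h2 := mem_gl_iff h' ![-x 1, x 0] t
  rw [hσ] at h1
  rw [hσ'] at h2
  rw [heq, h2] at h1
  have h3 : ∀ z : Γ(T, ⊤), (𝟙 T : T ⟶ T).appTop z = z := fun z => by
    rw [Scheme.Hom.id_appTop]; rfl
  simp only [h3, Matrix.cons_val_zero, Matrix.cons_val_one] at h1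
  rw [show -x 1 * x 0 + x 0 * x 1 = 0 by ring, show -x 1 * x' 0 + x 0 * x' 1 = x 0 * x' 1 - x 1 * x' 0 by ring,
    Scheme.basicOpen_zero, Scheme.basicOpen_of_isUnit _ hu] at h1
  exact h1.1 trivial

end Points

/-- Node HB1: the family of projective lines with distinct sections is prestable of genus `0`. -/
theorem isPre_std {S : Scheme.{u}} {N : ℕ} (A : CurvSt.PtFamObj S N) (φ : A.C ≅ P1 A.base.left) (hφ : φ.hom ≫ pr A.base.left = A.f)
    (h : ∀ i j, i ≠ j → ∀ t, A.sect i t ≠ A.sect j t) : IsPre A := by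
  have h1 : Flat (pr A.base.left) := flat_pr
  have h2 : IsProper (pr A.base.left) := isProper_pr
  have h3 : LocallyOfFinitePresentation (pr A.base.left) := lfp_pr
  refine ⟨by rw [← hφ]; infer_instance, by rw [← hφ]; infer_instance, by rw [← hφ]; infer_instance, ?_⟩
  intro Ω _ _ t Xt i q hP
  have hP' : IsPullback (i ≫ φ.hom) q (pr A.base.left) t := by
    have h4 : IsPullback φ.hom A.f (pr A.base.left) (𝟙 _) :=
      IsPullback.of_horiz_isIso ⟨by rw [hφ, Category.comp_id]⟩
    have h5 := hP.paste_horiz h4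
    rwa [Category.comp_id] at h5
  obtain ⟨e, he, -⟩ := exists_fibIso hP'
  have hirr : IrreducibleSpace Xt := irreducibleSpace_p1 e
  have hprop : IsProper q := isProper_p1 e he
  have hsm : Smooth q := smooth_p1 e he
  refine ⟨hprop, inferInstance, dim_p1 e, ⟨fun _ _ => Or.inl ⟨⊤, trivial, ?_⟩, genus_p1 e he⟩, ?_,
      fun a => ⟨isClosed_markedPt _ hP a, ⊤, trivial, inferInstance⟩⟩
  · change Smooth (_ ≫ q)
    infer_instance
  · intro a b hab
    by_contra hne
    obtain ⟨z, hz⟩ : ∃ z : ↥(Spec (CommRingCat.of Ω)), z = IsLocalRing.closedPoint Ω := ⟨_, rfl⟩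
    refine h a b hne (t z) ?_
    have key : ∀ c, i (CurvSt.markedPt A.sect A.sect_f hP c) = A.sect c (t z) := by
      intro c
      rw [CurvSt.markedPt, ← hz]
      have h6 := congr($(hP.lift_fst (t ≫ A.sect c) (𝟙 _)
        (by rw [Category.assoc, A.sect_f, Category.comp_id, Category.id_comp])) z)
      rw [Scheme.Hom.comp_apply, Scheme.Hom.comp_apply] at h6
      exact h6
    rw [← key, ← key, hab]

section B0

variable (k : Type u) [Field k] (r : ℕ)

theorem isUnit_disc : (∀ i, IsUnit (xU k r i)) ∧ (∀ i, IsUnit (xU k r i - 1)) ∧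
    ∀ i j, i ≠ j → IsUnit (xU k r i - xU k r j) := by
  have h : IsUnit (algebraMap (MvPolynomial (Fin r) k) (QR k r) ((∏ i, MvPolynomial.X i * (MvPolynomial.X i - 1)) *
    ∏ p ∈ (Finset.univ : Finset (Fin r × Fin r)).filter (fun p => p.1 ≠ p.2),
      (MvPolynomial.X p.1 - MvPolynomial.X p.2))) :=
    IsLocalization.Away.algebraMap_isUnit (S := QR k r) (disc k r)
  rw [map_mul, map_prod, map_prod, IsUnit.mul_iff, IsUnit.prod_iff, IsUnit.prod_iff] at h
  simp only [map_mul, map_sub, map_one, IsUnit.mul_iff, Finset.mem_univ, true_imp_iff, Finset.mem_filter, true_and] at h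
  exact ⟨fun i => (h.1 i).1, fun i => (h.1 i).2, fun i j hij => h.2 (i, j) hij⟩

theorem isUnit_xF : (∀ i, IsUnit (xF k r i)) ∧ (∀ i, IsUnit (xF k r i - 1)) ∧
    ∀ i j, i ≠ j → IsUnit (xF k r i - xF k r j) := by
  obtain ⟨h1, h2, h3⟩ := isUnit_disc k r
  refine ⟨fun i => (h1 i).map (Scheme.ΓSpecIso (CommRingCat.of (QR k r))).inv.hom, fun i => ?_, fun i j hij => ?_⟩
  · have h4 := (h2 i).map (Scheme.ΓSpecIso (CommRingCat.of (QR k r))).inv.hom
    rw [map_sub, map_one] at h4
    exact h4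
  · have h4 := (h3 i j hij).map (Scheme.ΓSpecIso (CommRingCat.of (QR k r))).inv.hom
    rw [map_sub] at h4
    exact h4

/-- The homogeneous coordinates of the sections of `B0`. -/
noncomputable def hc : Fin (r + 3) → Fin 2 → Γ((QO k r).left, ⊤) :=
  Fin.addCases (fun i => ![1, xF k r i]) ![![1, 0], ![1, 1], ![0, 1]]

theorem givenBy_sect (i : Fin (r + 3)) :
    GivenBy ((B0 k r).sect i ≫ toZ 1 _) (Coh.structureModule (QO k r).left) (fun a => ofFun (hc k r i a)) := by
  refine Fin.addCases (fun i => ?_) (fun i => ?_) i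
  · rw [hc, Fin.addCases_left]
    have h : (B0 k r).sect (Fin.castAdd 3 i) = aff (xF k r i) :=
      Fin.addCases_left (motive := fun _ => ((QO k r).left ⟶ P1 (QO k r).left)) (left := fun i => aff (xF k r i))
        (right := std3 (QO k r).left) i
    rw [h]
    exact givenBy_aff _
  · rw [hc, Fin.addCases_right]
    have h : (B0 k r).sect (Fin.natAdd r i) = std3 (QO k r).left i :=
      Fin.addCases_right (motive := fun _ => ((QO k r).left ⟶ P1 (QO k r).left)) (left := fun i => aff (xF k r i))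
        (right := std3 (QO k r).left) i
    rw [h]
    fin_cases i
    · exact givenBy_aff _
    · exact givenBy_aff _
    · exact givenBy_inf

theorem isUnit_hc (i j : Fin (r + 3)) (hij : i ≠ j) :
    IsUnit (hc k r i 0 * hc k r j 1 - hc k r i 1 * hc k r j 0) := by
  obtain ⟨h1, h2, h3⟩ := isUnit_xF k r
  revert hij
  refine Fin.addCases (fun i => ?_) (fun i => ?_) i <;> refine Fin.addCases (fun j => ?_) (fun j => ?_) j
  · intro hij
    simp only [hc, Fin.addCases_left, Matrix.cons_val_zero, Matrix.cons_val_one, one_mul, mul_one]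
    exact h3 j i fun h => hij (by rw [h])
  · intro _
    simp only [hc, Fin.addCases_left, Fin.addCases_right, Matrix.cons_val_zero, Matrix.cons_val_one, one_mul]
    fin_cases j
    · simpa using (h1 i).neg
    · simpa using (h2 i).neg
    · simp
  · intro _
    simp only [hc, Fin.addCases_left, Fin.addCases_right, Matrix.cons_val_zero, Matrix.cons_val_one, mul_one]
    fin_cases i
    · simpa using h1 j
    · simpa using h2 j
    · simp
  · intro hij
    simp only [hc, Fin.addCases_right]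
    fin_cases i <;> fin_cases j <;> simp_all

/-- Node HB2: the family `B0` is prestable of genus `0`. -/
theorem isPre_B0 : IsPre (B0 k r) :=
  isPre_std (B0 k r) (Iso.refl _) (Category.id_comp _) fun i j hij t =>
    ne_of_isUnit ((B0 k r).sect_f i) ((B0 k r).sect_f j) (givenBy_sect k r i) (givenBy_sect k r j)
      (isUnit_hc k r i j hij) t

end B0

end K458.HonB1
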