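import Groth.Agent.Fano.K723.LinDef
import Groth.Agent.Fano.K123.Van
import Groth.Agent.Fdesc.LocGenTensor
import Mathlib.RingTheory.MvPolynomial.Homogeneous

/-!
# The equations of the linear combinations of sections at which a form vanishes

* `exists_val`: the value of a form of degree `d` at sections of an invertible module `L`, a section of `L^d`;
* `exists_equations`: node B3 of `K723.PlanL`.
-/

set_option autoImplicit false

universe u

open CategoryTheory CategoryTheory.Limits AlgebraicGeometry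

namespace K458.KonEq

open K390.PnSec Groth.Agent.Fdesc.LocGen K188.LineDef K745.ConDef K505.KonDef K723.LinDef K123.Van

section Val

variable {C T : Scheme.{u}} {L : C.Modules} {m d : ℕ}

/-- The value of a form at proportional vectors. -/
theorem eval_smul_pow {f : C ⟶ T} {H : MvPolynomial (Fin m) Γ(T, ⊤)} (hH : H.IsHomogeneous d) {x : Fin m → Γ(L, ⊤)}
    {V : C.Opens} {e e' : Γ(L, V)} {a a' : Fin m → Γ(C, V)} (he : IsGen e) (he' : IsGen e')
    (ha : ∀ i, res L le_top (x i) = a i • e) (ha' : ∀ i, res L le_top (x i) = a' i • e') :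
    MvPolynomial.eval₂ (ρV f V) a H • pow e d = MvPolynomial.eval₂ (ρV f V) a' H • pow e' d := by
  obtain ⟨u, -, rfl⟩ := he.exists_unit he'
  have h1 : a = fun i => u * a' i := by
    funext i
    refine he.ext ?_
    rw [← ha, ha', mul_comm, mul_smul]
  rw [h1, eval₂_mul_of_isHomogeneous _ hH, smul_pow, smul_smul, mul_comm]

/-- The value of a form at sections of an invertible module. -/
theorem exists_val (f : C ⟶ T) (hL : PicF.IsInvertible L) (x : Fin m → Γ(L, ⊤)) {H : MvPolynomial (Fin m) Γ(T, ⊤)}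
    (hH : H.IsHomogeneous d) :
    ∃ s : Γ(CohB1.tensorPow L d, ⊤), ∀ (V : C.Opens) (e : Γ(L, V)) (a : Fin m → Γ(C, V)), IsGen e →
      (∀ i, res L le_top (x i) = a i • e) →
      res (CohB1.tensorPow L d) le_top s = MvPolynomial.eval₂ (ρV f V) a H • pow e d := by
  choose U e hU he using (isInvertible_iff L).1 hL
  choose a ha using fun (t : C) (i : Fin m) => (he t).exists_eq (res L le_top (x i))
  -- restriction of local values
  have hres : ∀ {V W : C.Opens} (h : W ≤ V) (e : Γ(L, V)) (a : Fin m → Γ(C, V)),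
      res (CohB1.tensorPow L d) h (MvPolynomial.eval₂ (ρV f V) a H • pow e d) =
        MvPolynomial.eval₂ (ρV f W) (fun i => ores h (a i)) H • pow (res L h e) d := by
    intro V W h e a
    rw [res_smul, ores_eval₂, res_pow]
  have hresx : ∀ {V W : C.Opens} (h : W ≤ V) {e : Γ(L, V)} {a : Fin m → Γ(C, V)},
      (∀ i, res L le_top (x i) = a i • e) → ∀ i, res L le_top (x i) = ores h (a i) • res L h e := by
    intro V W h e a ha i
    rw [← res_smul, ← ha, res_res]
  obtain ⟨s, hs⟩ := res_glue (CohB1.tensorPow L d) (V := ⊤) U (fun _ => le_top)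
    (fun t _ => TopologicalSpace.Opens.mem_iSup.2 ⟨t, hU t⟩)
    (fun t => MvPolynomial.eval₂ (ρV f (U t)) (a t) H • pow (e t) d) (fun t t' => by
      rw [hres, hres]
      exact eval_smul_pow hH ((he t).res _) ((he t').res _) (hresx _ (ha t)) (hresx _ (ha t')))
  refine ⟨s, fun V e' a' he' ha' => ?_⟩
  refine res_ext (CohB1.tensorPow L d) (fun t : C => V ⊓ U t) (fun t => inf_le_left) ?_ fun t => ?_
  · intro t ht
    exact TopologicalSpace.Opens.mem_iSup.2 ⟨t, ht, hU t⟩
  · rw [hres, res_res]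
    have h1 : res (CohB1.tensorPow L d) (le_top : V ⊓ U t ≤ ⊤) s =
        res (CohB1.tensorPow L d) (inf_le_right : V ⊓ U t ≤ U t) (res (CohB1.tensorPow L d) le_top s) := by
      rw [res_res]
    rw [h1, hs, hres]
    exact eval_smul_pow hH ((he t).res _) (he'.res _) (hresx _ (ha t)) (hresx _ ha')

/-- Pulling back sections of an invertible module along the identity is injective. -/
theorem pullTop_id_injective {M : C.Modules} (hM : PicF.IsInvertible M) {s t : Γ(M, ⊤)}
    (h : pullTop (𝟙 C) s = pullTop (𝟙 C) t) : s = t := by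
  choose U e hU he using (isInvertible_iff M).1 hM
  refine res_ext M U (fun t => le_top) (fun t _ => TopologicalSpace.Opens.mem_iSup.2 ⟨t, hU t⟩) fun c => ?_
  obtain ⟨b, hb⟩ := (he c).exists_eq (res M le_top s)
  obtain ⟨b', hb'⟩ := (he c).exists_eq (res M le_top t)
  have h1 : ∀ r : Γ(M, ⊤), res ((Scheme.Modules.pullback (𝟙 C)).obj M) le_top (pullTop (𝟙 C) r) =
      pullSec (𝟙 C) (res M (le_top : U c ≤ ⊤) r) := fun r => res_pullSec (𝟙 C) (le_top : U c ≤ ⊤) r
  have h2 := (h1 s).symm.trans ((congrArg _ h).trans (h1 t))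
  rw [hb, hb', pullSec_smul, pullSec_smul] at h2
  have h3 := ((he c).pullSec (𝟙 C)).ext h2
  rw [Scheme.Hom.id_app] at h3
  rw [hb, hb']
  exact congrArg (· • e c) h3

end Val

section Expand

variable {n d e : ℕ} {R S A : Type u} [CommRing R] [CommRing S] [CommRing A]

/-- The form `F(Σ_j X_{l,j} z_j)`. -/
noncomputable def big (F : MvPolynomial (Fin (n + 1)) R) (e : ℕ) :
    MvPolynomial (Fin (e + 1)) (MvPolynomial (Fin (n + 1) × Fin (e + 1)) R) :=
  MvPolynomial.eval₂ (MvPolynomial.C.comp MvPolynomial.C)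
    (fun l => ∑ j, MvPolynomial.C (MvPolynomial.X (l, j)) * MvPolynomial.X j) F

theorem isHomogeneous_big {F : MvPolynomial (Fin (n + 1)) R} (hF : F.IsHomogeneous d) :
    (big F e).IsHomogeneous d := by
  have h1 := hF.eval₂ (MvPolynomial.C.comp MvPolynomial.C)
    (fun l : Fin (n + 1) => ∑ j : Fin (e + 1), MvPolynomial.C (MvPolynomial.X (l, j)) * MvPolynomial.X j)
    (fun r => MvPolynomial.isHomogeneous_C _ _) (n := 1) (fun l => by
      refine MvPolynomial.IsHomogeneous.sum _ _ _ fun j _ => ?_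
      simpa using (MvPolynomial.isHomogeneous_C (Fin (e + 1)) (MvPolynomial.X (l, j))).mul
        (MvPolynomial.isHomogeneous_X _ j))
  rwa [one_mul] at h1

theorem eval_big (F : MvPolynomial (Fin (n + 1)) R) (g : R →+* S) (ρ : S →+* A) (φ : Fin (n + 1) → Fin (e + 1) → S)
    (a : Fin (e + 1) → A) :
    ∑ β ∈ (big F e).support, ρ (MvPolynomial.eval₂ g (fun x => φ x.1 x.2) ((big F e).coeff β)) * ∏ j, a j ^ β j =
      MvPolynomial.eval₂ ρ (fun l => ∑ j, ρ (φ l j) * a j) (F.map g) := by
  let Φ : MvPolynomial (Fin (n + 1) × Fin (e + 1)) R →+* A :=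
    ρ.comp (MvPolynomial.eval₂Hom g (fun x => φ x.1 x.2))
  have h1 : MvPolynomial.eval₂ Φ a (big F e) = MvPolynomial.eval₂ ρ (fun l => ∑ j, ρ (φ l j) * a j) (F.map g) := by
    have h2 : (MvPolynomial.eval₂Hom Φ a) (big F e) =
      MvPolynomial.eval₂ ((MvPolynomial.eval₂Hom Φ a).comp (MvPolynomial.C.comp MvPolynomial.C))
        ((MvPolynomial.eval₂Hom Φ a) ∘ fun l => ∑ j, MvPolynomial.C (MvPolynomial.X (l, j)) * MvPolynomial.X j) F :=
      MvPolynomial.eval₂_comp_left _ _ _ _
    refine Eq.trans h2 ?_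
    rw [MvPolynomial.eval₂_map]
    congr 1
    · ext r
      simp [Φ]
    · funext l
      simp [Φ]
  rw [← h1, MvPolynomial.eval₂_eq']
  rfl

end Expand

section Main

variable {C T : Scheme.{u}}

/-- The restriction of a linear combination with coefficients on the base. -/
theorem res_sum {M : C.Modules} {f : C ⟶ T} {κ : Type*} (S : Finset κ) (b : κ → Γ(T, ⊤)) (t : κ → Γ(M, ⊤)) (V : C.Opens) :
    res M (le_top : V ≤ ⊤) (∑ j ∈ S, (f.appTop (b j)) • t j) = ∑ j ∈ S, (ρV f V (b j)) • res M le_top (t j) := by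
  rw [map_sum]
  exact Finset.sum_congr rfl fun j _ => res_smul M _ _ _

/-- Node B3: the equations of the linear combinations at which a form vanishes. -/
theorem exists_equations {C T : Scheme.{u}} (f : C ⟶ T) {L : C.Modules} (hL : PicF.IsInvertible L) {n d e p : ℕ}
    {ε : Fin (e + 1) → Γ(L, ⊤)} (_hε : IsBasis f L ε) {η : Fin p → Γ(CohB1.tensorPow L d, ⊤)}
    (hη : IsBasis f (CohB1.tensorPow L d) η) (F : MvPolynomial (Fin (n + 1)) Γ(T, ⊤)) (hF : F.IsHomogeneous d) :
    ∃ P : Fin p → MvPolynomial (Fin (n + 1) × Fin (e + 1)) Γ(T, ⊤),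
      ∀ {T' C' : Scheme.{u}} (i : C' ⟶ C) (f' : C' ⟶ T') (g : T' ⟶ T), IsPullback i f' f g →
        ∀ φ : Fin (n + 1) → Fin (e + 1) → Γ(T', ⊤),
          Van f' (lc f' (fun j => pullTop i (ε j)) φ) (F.map g.appTop.hom) ↔
            ∀ l, MvPolynomial.eval₂ g.appTop.hom (fun x => φ x.1 x.2) (P l) = 0 := by
  have hM := isInvertible_tensorPow hL d
  -- the values of the monomials
  have hmon : ∀ β : (big F e).support, ∃ s : Γ(CohB1.tensorPow L d, ⊤),
      ∀ (V : C.Opens) (e0 : Γ(L, V)) (a : Fin (e + 1) → Γ(C, V)), IsGen e0 → (∀ i, res L le_top (ε i) = a i • e0) →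
        res (CohB1.tensorPow L d) le_top s = (∏ j, a j ^ β.1 j) • pow e0 d := by
    rintro ⟨β, hβ⟩
    obtain ⟨s, hs⟩ := exists_val f hL ε (H := MvPolynomial.monomial β (1 : Γ(T, ⊤))) (d := d) (by
      refine MvPolynomial.isHomogeneous_monomial _ ?_
      have := isHomogeneous_big (e := e) hF (MvPolynomial.mem_support_iff.1 hβ)
      rw [Finsupp.weight_apply] at this
      rw [← this, Finsupp.degree_eq_sum, Finsupp.sum_fintype _ _ (by simp)]
      simp)
    refine ⟨s, fun V e0 a he0 ha => ?_⟩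
    rw [hs V e0 a he0 ha, MvPolynomial.eval₂_monomial, map_one, one_mul, Finsupp.prod_fintype _ _ (by simp)]
  choose s hs using hmon
  -- the coefficients
  have hc : ∀ β : (big F e).support, ∃ c : Fin p → Γ(T, ⊤), s β = ∑ l, (f.appTop (c l)) • η l := by
    intro β
    obtain ⟨c, hc, -⟩ := hη (𝟙 C) f (𝟙 T) (IsPullback.of_horiz_isIso ⟨by simp⟩) (pullTop (𝟙 C) (s β))
    refine ⟨c, pullTop_id_injective hM ?_⟩
    rw [hc, pullTop_sum_smul]
    rfl
  choose c hc using hc
  refine ⟨fun l => ∑ β : (big F e).support, MvPolynomial.C (c β l) * (big F e).coeff β, ?_⟩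
  intro T' C' i f' g hP φ
  let q : (big F e).support → Γ(T', ⊤) := fun β =>
    MvPolynomial.eval₂ g.appTop.hom (fun x => φ x.1 x.2) ((big F e).coeff β)
  let Sφ : Γ((Scheme.Modules.pullback i).obj (CohB1.tensorPow L d), ⊤) :=
    ∑ β : (big F e).support, (f'.appTop (q β)) • pullTop i (s β)
  -- local description of the section
  have hloc : ∀ (V : C.Opens) (e0 : Γ(L, V)) (a : Fin (e + 1) → Γ(C, V)), IsGen e0 →
      (∀ i, res L le_top (ε i) = a i • e0) →
      (res ((Scheme.Modules.pullback i).obj (CohB1.tensorPow L d)) (le_top : i ⁻¹ᵁ V ≤ ⊤) Sφ =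
        MvPolynomial.eval₂ (ρV f' (i ⁻¹ᵁ V)) (fun l => ∑ j, ρV f' (i ⁻¹ᵁ V) (φ l j) * i.app V (a j))
          (F.map g.appTop.hom) • pullSec i (pow e0 d)) ∧
      ∀ l, res ((Scheme.Modules.pullback i).obj L) (le_top : i ⁻¹ᵁ V ≤ ⊤) (lc f' (fun j => pullTop i (ε j)) φ l) =
        (∑ j, ρV f' (i ⁻¹ᵁ V) (φ l j) * i.app V (a j)) • pullSec i e0 := by
    intro V e0 a he0 ha
    constructor
    · have h3 : res ((Scheme.Modules.pullback i).obj (CohB1.tensorPow L d)) (le_top : i ⁻¹ᵁ V ≤ ⊤) Sφ =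
          ∑ β : (big F e).support, (ρV f' (i ⁻¹ᵁ V) (q β)) •
            res ((Scheme.Modules.pullback i).obj (CohB1.tensorPow L d)) le_top (pullTop i (s β)) :=
        res_sum Finset.univ q (fun β => pullTop i (s β)) (i ⁻¹ᵁ V)
      have h4 : ∀ β : (big F e).support,
          res ((Scheme.Modules.pullback i).obj (CohB1.tensorPow L d)) (le_top : i ⁻¹ᵁ V ≤ ⊤) (pullTop i (s β)) =
            (∏ j, (i.app V (a j)) ^ β.1 j : Γ(C', i ⁻¹ᵁ V)) • pullSec i (pow e0 d) := by
        intro β
        refine (res_pullSec i (le_top : V ≤ ⊤) (s β)).trans ?_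
        rw [hs β V e0 a he0 ha, pullSec_smul, map_prod]
        simp only [map_pow]
      rw [h3]
      simp only [h4, smul_smul]
      rw [← Finset.sum_smul]
      congr 1
      rw [← eval_big F g.appTop.hom (ρV f' (i ⁻¹ᵁ V)) φ (fun j => (i.app V (a j) : Γ(C', i ⁻¹ᵁ V)))]
      exact Finset.sum_coe_sort (big F e).support
        (fun β => ρV f' (i ⁻¹ᵁ V) (MvPolynomial.eval₂ g.appTop.hom (fun x => φ x.1 x.2) ((big F e).coeff β)) *
          ∏ j, (i.app V (a j)) ^ β j)
    · intro l
      have h3 := res_sum (M := (Scheme.Modules.pullback i).obj L) (f := f') Finset.univ (φ l)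
        (fun j => pullTop i (ε j)) (i ⁻¹ᵁ V)
      refine h3.trans ?_
      have h4 : ∀ j, res ((Scheme.Modules.pullback i).obj L) (le_top : i ⁻¹ᵁ V ≤ ⊤) (pullTop i (ε j)) =
          (i.app V (a j) : Γ(C', i ⁻¹ᵁ V)) • pullSec i e0 := by
        intro j
        refine (res_pullSec i (le_top : V ≤ ⊤) (ε j)).trans ?_
        rw [ha j, pullSec_smul]
      simp only [h4, smul_smul]
      rw [← Finset.sum_smul]
  have h1 : Van f' (lc f' (fun j => pullTop i (ε j)) φ) (F.map g.appTop.hom) ↔ Sφ = 0 := by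
    choose U e0 hU he0 using (isInvertible_iff L).1 hL
    choose a ha using fun (t : C) (j : Fin (e + 1)) => (he0 t).exists_eq (res L le_top (ε j))
    constructor
    · intro hv
      refine res_ext _ (fun t : C' => i ⁻¹ᵁ (U (i t))) (fun t => le_top)
        (fun t _ => TopologicalSpace.Opens.mem_iSup.2 ⟨t, hU (i t)⟩) fun t => ?_
      obtain ⟨h3, h4⟩ := hloc (U (i t)) (e0 (i t)) (a (i t)) (he0 (i t)) (ha (i t))
      rw [h3, hv _ _ _ ((he0 (i t)).pullSec i) h4, zero_smul, map_zero]
    · intro hz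
      refine van_of_cover (hF.map g.appTop.hom) fun t => ?_
      obtain ⟨h3, h4⟩ := hloc (U (i t)) (e0 (i t)) (a (i t)) (he0 (i t)) (ha (i t))
      refine ⟨i ⁻¹ᵁ (U (i t)), hU (i t), pullSec i (e0 (i t)), _, (he0 (i t)).pullSec i, h4, ?_⟩
      refine (((he0 (i t)).pow d).pullSec i).ext ?_
      rw [← h3, hz, map_zero, zero_smul]
  have h2 : Sφ = ∑ l, (f'.appTop (MvPolynomial.eval₂ g.appTop.hom (fun x => φ x.1 x.2)
      (∑ β : (big F e).support, MvPolynomial.C (c β l) * (big F e).coeff β))) • pullTop i (η l) := by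
    have h3 : ∀ β : (big F e).support, pullTop i (s β) =
        ∑ l, (f'.appTop (g.appTop (c β l))) • pullTop i (η l) := by
      intro β
      rw [hc β, pullTop_sum_smul]
      refine Finset.sum_congr rfl fun l _ => ?_
      congr 1
      have h4 : f.appTop ≫ i.appTop = g.appTop ≫ f'.appTop := by
        rw [← Scheme.Hom.comp_appTop, ← Scheme.Hom.comp_appTop, hP.w]
      exact congr($h4 (c β l))
    change ∑ β : (big F e).support, (f'.appTop (q β)) • pullTop i (s β) = _
    simp only [h3, Finset.smul_sum, smul_smul]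
    rw [Finset.sum_comm]
    refine Finset.sum_congr rfl fun l _ => ?_
    rw [← Finset.sum_smul, MvPolynomial.eval₂_sum, map_sum]
    congr 1
    refine Finset.sum_congr rfl fun β _ => ?_
    rw [MvPolynomial.eval₂_mul, MvPolynomial.eval₂_C, map_mul, mul_comm]
  rw [h1]
  constructor
  · intro h l
    obtain ⟨z, -, hz⟩ := hη i f' g hP 0
    have h3 := hz _ (h.symm.trans h2)
    have h4 := hz (fun _ => 0) (by simp)
    exact (congrFun h3 l).trans (congrFun h4 l).symm
  · intro h
    rw [h2]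
    exact Finset.sum_eq_zero fun l _ => by rw [h l, map_zero, zero_smul]

end Main

end K458.KonEq
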